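import Cfsg.Agent.H216.Inv.Conway
import Cfsg.Agent.H959.T5.Base

/-!
# S3854: the rows `HS`, `McL`, `Co₃`, `Co₂` (helper216)

`noRE_of_hom` : a simple subgroup of index prime to `p`.
-/

set_option autoImplicit false

namespace Cfsg.Agent.H216.TFive

open Subgroup Cfsg Cfsg.Agent.H459.Rad Cfsg.Agent.H301.SY Cfsg.Agent.H959.T5 Cfsg.Agent.H216.InvConway
open Cfsg.Agent.H973.Rad

/-- **a proper simple subgroup of index prime to `p`** -/
theorem noRE_of_hom {K : Type*} [Group K] [Finite K] {p : ℕ} (hp : p.Prime)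
    {H : Type*} [Group H] [Finite H] [hs : IsSimpleGroup H] (hH : ¬ (Nat.card H).Prime) (f : H →* K)
    (hf : Function.Injective f) (hlt : Nat.card H < Nat.card K) (hi : ¬ p ∣ Nat.card K / Nat.card H) : NoRE p K := by
  intro g hg hR
  have hpf : Fact p.Prime := ⟨hp⟩
  have hc : Nat.card f.range = Nat.card H := (Nat.card_congr (MonoidHom.ofInjective hf).toEquiv).symm
  have hsM : IsSimpleGroup f.range := (MonoidHom.ofInjective hf).symm.isSimpleGroup
  have hidx : ¬ p ∣ f.range.index := by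
    intro h1
    apply hi
    have h2 := f.range.card_mul_index
    rw [hc] at h2
    rw [← h2, Nat.mul_div_cancel_left _ Nat.card_pos]
    exact h1
  have hP : IsPGroup p (zpowers g) := IsPGroup.of_card (n := 1) (by rw [Nat.card_zpowers, hg, pow_one])
  have hfin : Finite (K ⧸ f.range) := inferInstance
  obtain ⟨q, hq⟩ := hP.nonempty_fixed_point_of_prime_not_dvd_card (α := K ⧸ f.range) hidx
  obtain ⟨k, rfl⟩ := QuotientGroup.mk_surjective q
  have h1 : k⁻¹ * g * k ∈ f.range := by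
    have h2 := hq ⟨g, mem_zpowers g⟩
    have h3 : ((g * k : K) : K ⧸ f.range) = (k : K ⧸ f.range) := h2
    have h4 := QuotientGroup.eq.1 h3.symm
    rwa [← mul_assoc] at h4
  have h2 : RE (k⁻¹ * g * k) := by
    have h3 := hR.map (MulAut.conj k⁻¹)
    rwa [MulAut.conj_apply, inv_inv] at h3
  have h3 : f.range ≠ ⊤ := by
    intro h4
    rw [h4, Subgroup.card_top] at hc
    omega
  have h4 := h2 f.range h3 h1
  unfold radIn at h4
  rw [rad_eq_bot_of_simple (not_solvable_of_card (by rw [hc]; exact hH)), Subgroup.map_bot, mem_bot] at h4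
  have h5 : g = 1 := by
    have h6 : k⁻¹ * g = k⁻¹ := by
      have h7 := congrArg (fun t => t * k⁻¹) h4
      simpa [mul_assoc] using h7
    simpa using h6
  rw [h5, orderOf_one] at hg
  exact hp.one_lt.ne hg

theorem noRE_of_sub {X : Type} [Group X] {K : Type*} [Group K] [Finite K] (e : K ≃* X) {p : ℕ} (hp : p.Prime)
    (h : p ∣ Nat.card X → Sub p X) : NoRE p K := by
  have hcard : Nat.card K = Nat.card X := Nat.card_congr e.toEquiv
  intro x hx
  obtain ⟨H, _, _, hs, f, h1, h2, h3, h4⟩ := h (by rw [← hcard, ← hx]; exact orderOf_dvd_natCard x)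
  refine noRE_of_hom hp h1 (e.symm.toMonoidHom.comp f) ?_ (by rw [hcard]; exact h3) (by rw [hcard]; exact h4) x hx
  rw [MonoidHom.coe_comp]
  exact e.symm.injective.comp h2

section

variable {K : Type*} [Group K] [Finite K] {p : ℕ}

theorem noTE_hs (h : Cfsg.Spor.IsoHS K) [hp : Fact p.Prime] (h5 : 5 ≤ p) : NoTE p K := by
  obtain ⟨e⟩ := h
  exact (noRE_of_sub e hp.out (sub_HS hp.out h5)).noTE

theorem noTE_mcl (h : Cfsg.Spor.IsoMcL K) [hp : Fact p.Prime] (h5 : 5 ≤ p) : NoTE p K := by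
  obtain ⟨e⟩ := h
  exact (noRE_of_sub e hp.out (sub_McL hp.out h5)).noTE

theorem noTE_co3 (h : Cfsg.Spor.IsoCo3 K) [hp : Fact p.Prime] (h5 : 5 ≤ p) : NoTE p K := by
  obtain ⟨e⟩ := h
  exact (noRE_of_sub e hp.out (sub_Co3 hp.out h5)).noTE

theorem noTE_co2 (h : Cfsg.Spor.IsoCo2 K) [hp : Fact p.Prime] (h5 : 5 ≤ p) : NoTE p K := by
  obtain ⟨e⟩ := h
  exact (noRE_of_sub e hp.out (sub_Co2 hp.out h5)).noTE

end

end Cfsg.Agent.H216.TFive
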